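import Mathlib
import Cfsg.Agent.Lib.UnitaryFour.Transvection
import Cfsg.Agent.Lib.Unitary.Order

/-!
Elements of order 11 in the six-dimensional unitary group over four elements: they are
self-centralising modulo the scalars.
-/

set_option autoImplicit false
set_option linter.style.haveILetI false
set_option linter.unusedSectionVars false

namespace Cfsg.Agent.Lib.FischerMTypes.Eleven

open Matrix Module Cfsg.Agent.Lib.Unitary Cfsg.Agent.Lib.UnitaryFour.Transvection

/-- a free action on a finite type: the order of the group divides the number of points -/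
theorem card_dvd_of_free {K X : Type*} [Group K] [MulAction K X] [Finite K] [Finite X]
    (h : ∀ x : X, MulAction.stabilizer K x = ⊥) : Nat.card K ∣ Nat.card X := by
  classical
  have := Fintype.ofFinite (Quotient (MulAction.orbitRel K X))
  rw [Nat.card_congr (MulAction.selfEquivSigmaOrbitsQuotientStabilizer K X), Nat.card_sigma]
  refine Finset.dvd_sum fun ω _ => ?_
  rw [h, Nat.card_congr (QuotientGroup.quotientBot (G := K)).toEquiv]

variable {F : Type*} [Field F] [Fintype F]

/-- the linear map of an element -/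
def L (g : Cfsg.SU 6 F 2) : (Fin 6 → F) →ₗ[F] (Fin 6 → F) := Matrix.mulVecLin g.1.1

theorem L_apply (g : Cfsg.SU 6 F 2) (v : Fin 6 → F) : L g v = act g v := rfl

theorem det_L (g : Cfsg.SU 6 F 2) : LinearMap.det (L g) = 1 := by
  rw [L, ← Matrix.toLin'_apply']
  rw [LinearMap.det_toLin']
  exact g.1.2

theorem act_sub (g : Cfsg.SU 6 F 2) (u v : Fin 6 → F) : act g (u - v) = act g u - act g v :=
  (L g).map_sub u v

theorem pow_fix {g : Cfsg.SU 6 F 2} {v : Fin 6 → F} (h : act g v = v) (i : ℕ) : act (g ^ i) v = v := by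
  induction i with
  | zero => exact act_one v
  | succ i ih => rw [pow_succ, act_mul, h, ih]

/-- the fixed space of an element -/
abbrev fixS (x : Cfsg.SU 6 F 2) : Submodule F (Fin 6 → F) := LinearMap.ker (L x - LinearMap.id)

/-- the image of `x - 1` -/
abbrev movS (x : Cfsg.SU 6 F 2) : Submodule F (Fin 6 → F) := LinearMap.range (L x - LinearMap.id)

theorem mem_fixS {x : Cfsg.SU 6 F 2} {v : Fin 6 → F} : v ∈ fixS x ↔ act x v = v := by
  simp [fixS, LinearMap.mem_ker, sub_eq_zero, L_apply]

variable {x : Cfsg.SU 6 F 2}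

/-- an invariant subspace has as many points as fixed points, modulo 11 -/
theorem card_modEq (hx : orderOf x = 11) (U : Submodule F (Fin 6 → F))
    (hU : ∀ u ∈ U, act x u ∈ U) :
    Nat.card U ≡ Nat.card (U ⊓ fixS x : Submodule F (Fin 6 → F)) [MOD 11] := by
  classical
  have : Fact (Nat.Prime 11) := ⟨by norm_num⟩
  let f : Function.End U := fun u => ⟨act x u.1, hU _ u.2⟩
  have hpow : ∀ (i : ℕ) (u : U), ((f ^ i) u).1 = act (x ^ i) u.1 := by
    intro i
    induction i with
    | zero => intro u; exact (act_one _).symm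
    | succ i ih =>
      intro u
      rw [pow_succ, pow_succ, act_mul]
      show ((f ^ i) (f u)).1 = _
      rw [ih]
  have hf : f ^ (11 ^ 1) = 1 := by
    funext u
    apply Subtype.ext
    rw [hpow, pow_one, ← hx, pow_orderOf_eq_one, act_one]
    rfl
  have := Fintype.ofFinite U
  have key := Equiv.Perm.card_fixedPoints_modEq (p := 11) (n := 1) hf
  rw [← Nat.card_eq_fintype_card, ← Nat.card_eq_fintype_card] at key
  let e : Function.fixedPoints f ≃ (U ⊓ fixS x : Submodule F (Fin 6 → F)) :=
    { toFun := fun u => ⟨u.1.1, u.1.2, mem_fixS.mpr (congrArg Subtype.val u.2)⟩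
      invFun := fun u => ⟨⟨u.1, u.2.1⟩, Subtype.ext (mem_fixS.mp u.2.2)⟩
      left_inv := fun u => rfl
      right_inv := fun u => rfl }
  rw [← Nat.card_congr e]
  exact key

theorem card_sub (hF : Fintype.card F = 2 ^ 2) (U : Submodule F (Fin 6 → F)) :
    Nat.card U = 4 ^ finrank F U := by
  rw [natCard_eq_pow_finrank (K := F), Nat.card_eq_fintype_card, hF]
  norm_num

theorem finrank_fixS (hF : Fintype.card F = 2 ^ 2) (hx : orderOf x = 11) :
    finrank F (fixS x) = 1 := by
  have h := card_modEq hx ⊤ fun u _ => Submodule.mem_top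
  rw [top_inf_eq, card_sub hF, card_sub hF, finrank_top, finrank_fin_fun] at h
  have hle : finrank F (fixS x) ≤ 6 := (Submodule.finrank_le _).trans (le_of_eq (finrank_fin_fun F))
  have hne : finrank F (fixS x) ≠ 6 := by
    intro h6
    have htop : fixS x = ⊤ := Submodule.eq_top_of_finrank_eq (by rw [h6, finrank_fin_fun])
    have h1 : x = 1 := ext' fun v => by
      rw [act_one, mem_fixS.mp (htop ▸ Submodule.mem_top : v ∈ fixS x)]
    rw [h1, orderOf_one] at hx
    omega
  generalize finrank F (fixS x) = k at *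
  interval_cases k <;> simp_all [Nat.ModEq]

theorem eleven_nsmul (hF : Fintype.card F = 2 ^ 2) (v : Fin 6 → F) : 11 • v = v := by
  rw [show (11 : ℕ) = 2 * 5 + 1 from rfl, add_smul, one_smul, mul_smul, two_nsmul,
    add_self_zero hF, zero_add]

theorem disjoint_fix_mov (hF : Fintype.card F = 2 ^ 2) (hx : orderOf x = 11) :
    Disjoint (fixS x) (movS x) := by
  rw [Submodule.disjoint_def]
  rintro v hv ⟨w, hw⟩
  have hv' := mem_fixS.mp hv
  have hw' : act x w = w + v := by
    rw [← hw]; simp [L_apply]
  have hi : ∀ i : ℕ, act (x ^ i) w = w + i • v := by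
    intro i
    induction i with
    | zero => simp [act_one]
    | succ i ih =>
      rw [pow_succ, act_mul, hw', act_add, ih, pow_fix hv', succ_nsmul, add_assoc]
  have h11 := hi 11
  rw [← hx, pow_orderOf_eq_one, act_one, hx, eleven_nsmul hF, left_eq_add] at h11
  exact h11

theorem finrank_movS (hF : Fintype.card F = 2 ^ 2) (hx : orderOf x = 11) :
    finrank F (movS x) = 5 := by
  have h := (L x - LinearMap.id).finrank_range_add_finrank_ker
  rw [finrank_fin_fun] at h
  have := finrank_fixS hF hx
  simp only [fixS, movS] at *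
  omega

theorem comm_act {y : Cfsg.SU 6 F 2} (h : y * x = x * y) (v : Fin 6 → F) :
    act y (act x v) = act x (act y v) := by rw [← act_mul, h, act_mul]

theorem movS_invariant {y : Cfsg.SU 6 F 2} (h : y * x = x * y) {w : Fin 6 → F} (hw : w ∈ movS x) :
    act y w ∈ movS x := by
  obtain ⟨u, rfl⟩ := hw
  exact ⟨act y u, by simp [L_apply, act_sub, comm_act h]⟩

theorem fixS_invariant {y : Cfsg.SU 6 F 2} (h : y * x = x * y) {v : Fin 6 → F} (hv : v ∈ fixS x) :
    act y v ∈ fixS x := by
  rw [mem_fixS] at hv ⊢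
  rw [← comm_act h, hv]

/-- a centralising element fixing a moved vector fixes all of them -/
theorem fix_movS (hF : Fintype.card F = 2 ^ 2) (hx : orderOf x = 11) {y : Cfsg.SU 6 F 2}
    (h : y * x = x * y) {w : Fin 6 → F} (hw : w ∈ movS x) (hw0 : w ≠ 0) (hyw : act y w = w) :
    ∀ u ∈ movS x, act y u = u := by
  set U : Submodule F (Fin 6 → F) := movS x ⊓ fixS y
  have hU : ∀ u ∈ U, act x u ∈ U := fun u hu =>
    ⟨movS_invariant rfl hu.1, fixS_invariant h.symm hu.2⟩
  have h5 : finrank F U = 5 := by
    have hle : finrank F U ≤ 5 := (Submodule.finrank_mono inf_le_left).trans (finrank_movS hF hx).le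
    have hbot : U ⊓ fixS x = ⊥ :=
      ((disjoint_fix_mov hF hx).symm.mono_left inf_le_left).eq_bot
    have hm := card_modEq hx U hU
    rw [hbot, card_sub hF, card_sub hF, finrank_bot] at hm
    have hpos : finrank F U ≠ 0 := by
      intro h0
      have : w ∈ U := ⟨hw, mem_fixS.mpr hyw⟩
      rw [Submodule.finrank_eq_zero.mp h0] at this
      exact hw0 ((Submodule.mem_bot F).mp this)
    generalize finrank F U = k at *
    interval_cases k <;> simp_all [Nat.ModEq]
  have heq : U = movS x := Submodule.eq_of_le_of_finrank_eq inf_le_left (by rw [h5, finrank_movS hF hx])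
  exact fun u hu => mem_fixS.mp (heq.ge hu).2

/-- a centralising element trivial on the moved vectors is trivial -/
theorem eq_one_of_fix_movS (hF : Fintype.card F = 2 ^ 2) (hx : orderOf x = 11) {y : Cfsg.SU 6 F 2}
    (h : y * x = x * y) (hfix : ∀ u ∈ movS x, act y u = u) : y = 1 := by
  have hcompl : IsCompl (movS x) (fixS x) :=
    Submodule.isCompl_iff_disjoint _ _ (by
      rw [finrank_movS hF hx, finrank_fixS hF hx, finrank_fin_fun]) |>.mpr (disjoint_fix_mov hF hx).symm
  obtain ⟨v, hv0, hv⟩ := finrank_eq_one_iff'.mp (finrank_fixS hF hx)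
  obtain ⟨c, hc⟩ := hv ⟨act y v.1, fixS_invariant h v.2⟩
  have hc' : act y v.1 = c • v.1 := (congrArg Subtype.val hc).symm
  have hall : ∀ u : fixS x, act y u.1 = c • u.1 := by
    intro u
    obtain ⟨a, rfl⟩ := hv u
    rw [Submodule.coe_smul, act_smul, hc', smul_comm]
  let e := Submodule.prodEquivOfIsCompl _ _ hcompl
  have hconj : L y = (e.toLinearMap ∘ₗ (LinearMap.id.prodMap (c • LinearMap.id))) ∘ₗ e.symm.toLinearMap := by
    apply LinearMap.ext
    intro u
    obtain ⟨⟨a, b⟩, rfl⟩ := e.surjective u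
    simp [e, L_apply, act_add, hfix a.1 a.2, hall b]
  have hdet := det_L y
  rw [hconj, LinearMap.comp_assoc, LinearMap.det_conj, LinearMap.det_prodMap, LinearMap.det_id, LinearMap.det_smul,
    LinearMap.det_id, finrank_fixS hF hx] at hdet
  have hc1 : c = 1 := by simpa using hdet
  refine ext' fun u => ?_
  obtain ⟨⟨a, b⟩, rfl⟩ := e.surjective u
  simp [e, act_one, act_add, hfix a.1 a.2, hall b, hc1]

theorem card_SU_six (hF : Fintype.card F = 2 ^ 2) :
    Nat.card (Cfsg.SU 6 F 2) = 3 * (2 ^ 15 * 3 ^ 6 * 5 * 7 * 11) := by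
  have h := Cfsg.Agent.Lib.Unitary.card_SU (n := 6) hF (by norm_num)
  rw [Cfsg.Agent.Lib.Unitary.card_GU hF] at h
  simp [Finset.prod_range_succ, Nat.even_iff] at h
  omega

/-- the centraliser of an element of order 11 -/
theorem card_centralizer_SU (hF : Fintype.card F = 2 ^ 2) (hx : orderOf x = 11) :
    Nat.card (Subgroup.centralizer ({x} : Set (Cfsg.SU 6 F 2))) ∣ 33 := by
  classical
  set K := Subgroup.centralizer ({x} : Set (Cfsg.SU 6 F 2))
  have hK : ∀ k : K, k.1 * x = x * k.1 := fun k => Subgroup.mem_centralizer_singleton_iff.mp k.2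
  let X := {w : movS x // w ≠ 0}
  letI : MulAction K X :=
    { smul := fun k w => ⟨⟨act k.1 w.1.1, movS_invariant (hK k) w.1.2⟩, fun h0 => w.2 (Subtype.ext (by
        have h1 : act k.1 w.1.1 = 0 := congrArg Subtype.val h0
        show w.1.1 = 0
        rw [← act_inv_self k.1 w.1.1, h1]
        exact (L k.1⁻¹).map_zero))⟩
      one_smul := fun w => Subtype.ext (Subtype.ext (act_one _))
      mul_smul := fun k l w => Subtype.ext (Subtype.ext (act_mul _ _ _)) }
  have hfree : ∀ w : X, MulAction.stabilizer K w = ⊥ := by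
    intro w
    rw [eq_bot_iff]
    intro k hk
    rw [Subgroup.mem_bot]
    have hkw : act k.1 w.1.1 = w.1.1 := congrArg (fun t : X => t.1.1) hk
    exact Subtype.ext (eq_one_of_fix_movS hF hx (hK k)
      (fix_movS hF hx (hK k) w.1.2 (fun h0 => w.2 (Subtype.ext h0)) hkw))
  have h1 := card_dvd_of_free hfree
  have hX : Nat.card X = 1023 := by
    have := Fintype.ofFinite (movS x)
    rw [Nat.card_eq_fintype_card, Fintype.card_subtype_compl, Fintype.card_subtype_eq,
      ← Nat.card_eq_fintype_card, card_sub hF, finrank_movS hF hx]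
    norm_num
  rw [hX] at h1
  have h2 := Subgroup.card_subgroup_dvd_card K
  rw [card_SU_six hF] at h2
  have := Nat.dvd_gcd h1 h2
  norm_num [-Nat.card_eq_fintype_card] at this
  exact this

/-- modulo the scalars, elements of order 11 are self-centralising -/
theorem card_centralizer_quot (hF : Fintype.card F = 2 ^ 2) {K : Type*} [Group K] [Finite K]
    (φ : Cfsg.SU 6 F 2 →* K) (surj : Function.Surjective φ)
    (hker : φ.ker = Subgroup.center (Cfsg.SU 6 F 2)) (hK : Nat.card K = 2 ^ 15 * 3 ^ 6 * 5 * 7 * 11)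
    {k : K} (hk : orderOf k = 11) : Nat.card (Subgroup.centralizer ({k} : Set K)) ≤ 11 := by
  have hker3 : Nat.card φ.ker = 3 := by
    have h := Subgroup.card_eq_card_quotient_mul_card_subgroup φ.ker
    rw [Nat.card_congr (QuotientGroup.quotientKerEquivOfSurjective φ surj).toEquiv, hK,
      card_SU_six hF] at h
    omega
  have hz3 : ∀ z : Cfsg.SU 6 F 2, φ z = 1 → z ^ 3 = 1 := fun z hz => by
    have : (⟨z, hz⟩ : φ.ker) ^ 3 = 1 := by rw [← hker3]; exact pow_card_eq_one'
    exact congrArg Subtype.val this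
  obtain ⟨g, rfl⟩ := surj k
  set x := g ^ 12
  have hk11 : (φ g) ^ 11 = 1 := by rw [← hk]; exact pow_orderOf_eq_one _
  have hφx : φ x = φ g := by
    rw [map_pow, show (12 : ℕ) = 11 + 1 from rfl, pow_succ, hk11, one_mul]
  have hx11 : x ^ 11 = 1 := by
    rw [← pow_mul, show 12 * 11 = 11 * 3 * 4 from rfl, pow_mul, pow_mul, hz3 _ (by rw [map_pow, hk11]),
      one_pow]
  have hx : orderOf x = 11 := by
    have : Fact (Nat.Prime 11) := ⟨by norm_num⟩
    refine orderOf_eq_prime hx11 fun h1 => ?_
    rw [← hφx, h1, map_one, orderOf_one] at hk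
    omega
  set C := Subgroup.centralizer ({φ g} : Set K)
  have hle : C.comap φ ≤ Subgroup.centralizer ({x} : Set (Cfsg.SU 6 F 2)) := by
    intro y hy
    rw [Subgroup.mem_comap, Subgroup.mem_centralizer_singleton_iff] at hy
    rw [Subgroup.mem_centralizer_singleton_iff]
    set z := x⁻¹ * (y * x * y⁻¹)
    have hzker : φ z = 1 := by simp [z, hφx, hy]
    have hzcen : z ∈ Subgroup.center (Cfsg.SU 6 F 2) := hker ▸ hzker
    have hz1 : z = 1 := by
      have hc : Commute x z := Subgroup.mem_center_iff.mp hzcen x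
      have h' : y * x * y⁻¹ = x * z := by simp [z]
      have h11 : z ^ 11 = 1 := by
        have := congrArg (· ^ 11) h'
        simpa [conj_pow, hx11, hc.mul_pow] using this.symm
      have h3 := hz3 z hzker
      calc z = z ^ 12 * (z ^ 11)⁻¹ := by rw [pow_succ' z 11, mul_inv_cancel_right]
        _ = 1 := by rw [show (12 : ℕ) = 3 * 4 from rfl, pow_mul, h3, h11]; simp
    have := inv_mul_eq_one.mp hz1
    exact (mul_inv_eq_iff_eq_mul.mp this.symm)
  have h1 : Nat.card (C.comap φ) ∣ 33 :=
    (Subgroup.card_dvd_of_le hle).trans (card_centralizer_SU hF hx)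
  have h2 : Nat.card (C.comap φ) = 3 * Nat.card C := by
    have e1 := (C.comap φ).card_mul_index
    have e2 := C.card_mul_index
    rw [C.index_comap_of_surjective surj] at e1
    have e3 : Nat.card (Cfsg.SU 6 F 2) = 3 * Nat.card K := by rw [card_SU_six hF, hK]
    refine Nat.eq_of_mul_eq_mul_right (Nat.pos_of_ne_zero Subgroup.index_ne_zero_of_finite : 0 < C.index) ?_
    rw [e1, e3, mul_assoc, e2]
  rw [h2] at h1
  exact Nat.le_of_dvd (by norm_num) ((Nat.mul_dvd_mul_iff_left (show 0 < 3 by norm_num)).mp (by simpa using h1))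

end Cfsg.Agent.Lib.FischerMTypes.Eleven
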