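import Mathlib

/-!
Subgroups of order 11 in a group whose order 11 divides once: counting facts.
-/

set_option autoImplicit false
set_option linter.style.haveILetI false
set_option linter.unusedSectionVars false

namespace Cfsg.Agent.Lib.FischerMTypes.Eleven

open scoped Pointwise

variable {G : Type*} [Group G] [Finite G]

/-- the order has exactly one factor 11 -/
def Once (G : Type*) [Group G] : Prop := 11 ∣ Nat.card G ∧ ¬ 121 ∣ Nat.card G

theorem factorization_eq (h : Once G) : (Nat.card G).factorization 11 = 1 := by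
  have h0 : Nat.card G ≠ 0 := Nat.card_pos.ne'
  have hp : Nat.Prime 11 := by norm_num
  have h1 := (hp.pow_dvd_iff_le_factorization (k := 1) h0).mp (by simpa using h.1)
  have h2 : ¬ 2 ≤ (Nat.card G).factorization 11 := fun hle =>
    h.2 (by simpa using (hp.pow_dvd_iff_le_factorization (k := 2) h0).mpr hle)
  omega

theorem card_eq_pow (h : Once G) {X : Subgroup G} (hX : Nat.card X = 11) :
    Nat.card X = 11 ^ (Nat.card G).factorization 11 := by rw [factorization_eq h, hX, pow_one]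

theorem exists_conj (h : Once G) {X Y : Subgroup G} (hX : Nat.card X = 11) (hY : Nat.card Y = 11) :
    ∃ g : G, X.map (MulAut.conj g).toMonoidHom = Y := by
  have : Fact (Nat.Prime 11) := ⟨by norm_num⟩
  obtain ⟨g, hg⟩ := MulAction.exists_smul_eq G (Sylow.ofCard X (card_eq_pow h hX)) (Sylow.ofCard Y (card_eq_pow h hY))
  refine ⟨g, ?_⟩
  exact congrArg Sylow.toSubgroup hg

theorem index_normalizer_mod (h : Once G) {X : Subgroup G} (hX : Nat.card X = 11) :
    (Subgroup.normalizer (X : Set G)).index % 11 = 1 := by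
  have : Fact (Nat.Prime 11) := ⟨by norm_num⟩
  let P := Sylow.ofCard X (card_eq_pow h hX)
  have h1 := card_sylow_modEq_one 11 G
  rw [Sylow.card_eq_index_normalizer P] at h1
  exact h1

/-- the normaliser is the centraliser times a divisor of ten -/
theorem exists_normalizer_mul {X : Subgroup G} (hX : Nat.card X = 11) :
    ∃ k, k ∣ 10 ∧ Nat.card (Subgroup.normalizer (X : Set G)) =
      Nat.card (Subgroup.centralizer (X : Set G)) * k := by
  have : Fact (Nat.Prime 11) := ⟨by norm_num⟩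
  have hcyc : IsCyclic X := isCyclic_of_prime_card hX
  let f := Subgroup.normalizerMonoidHom X
  refine ⟨Nat.card f.range, ?_, ?_⟩
  · have := Subgroup.card_subgroup_dvd_card f.range
    rwa [IsCyclic.card_mulAut, hX] at this
  · rw [Subgroup.card_eq_card_quotient_mul_card_subgroup f.ker,
      Nat.card_congr (QuotientGroup.quotientKerEquivRange f).toEquiv, Subgroup.normalizerMonoidHom_ker,
      Nat.card_congr (Subgroup.subgroupOfEquivOfLe (Subgroup.centralizer_le_normalizer (X : Set G))).toEquiv,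
      mul_comm]

theorem le_centralizer_self {X : Subgroup G} (hX : Nat.card X = 11) :
    X ≤ Subgroup.centralizer (X : Set G) := by
  have : Fact (Nat.Prime 11) := ⟨by norm_num⟩
  have hc : IsCyclic X := isCyclic_of_prime_card hX
  let := hc.commGroup
  intro x hx
  rw [Subgroup.mem_centralizer_iff]
  exact fun y hy => congrArg Subtype.val (mul_comm (⟨y, hy⟩ : X) ⟨x, hx⟩)

theorem mem_normalizer_of_conj {X : Subgroup G} {h : G} (hh : ∀ x ∈ X, h * x * h⁻¹ ∈ X) :
    h ∈ Subgroup.normalizer (X : Set G) :=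
  Subgroup.mem_normalizer_fintype hh

theorem conj_mem_of_mem_normalizer {X : Subgroup G} {h : G}
    (hh : h ∈ Subgroup.normalizer (X : Set G)) : ∀ x ∈ X, h * x * h⁻¹ ∈ X :=
  fun x hx => (Subgroup.mem_normalizer_iff.mp hh x).mp hx

theorem card_comap {H Q : Type*} [Group H] [Finite H] [Group Q] [Finite Q] {π : H →* Q}
    (surj : Function.Surjective π) (K : Subgroup Q) :
    Nat.card (K.comap π) = Nat.card π.ker * Nat.card K := by
  have e1 := (K.comap π).card_mul_index
  have e2 := K.card_mul_index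
  rw [K.index_comap_of_surjective surj] at e1
  refine Nat.eq_of_mul_eq_mul_right (Nat.pos_of_ne_zero Subgroup.index_ne_zero_of_finite : 0 < K.index) ?_
  rw [e1, mul_assoc, e2, mul_comm, Subgroup.card_eq_card_quotient_mul_card_subgroup π.ker,
    Nat.card_congr (QuotientGroup.quotientKerEquivOfSurjective π surj).toEquiv]

/-- orbit and stabiliser for conjugation by a subgroup -/
theorem card_eq_orbit_mul {H : Subgroup G} {O : Set G} {x : G}
    (hin : ∀ h ∈ H, h * x * h⁻¹ ∈ O) (htr : ∀ y ∈ O, ∃ h ∈ H, h * x * h⁻¹ = y) :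
    Nat.card H = O.ncard * Nat.card (H ⊓ Subgroup.centralizer ({x} : Set G) : Subgroup G) := by
  let S := (Subgroup.centralizer ({x} : Set G)).subgroupOf H
  let f : H ⧸ S → O := Quotient.lift (fun h : H => (⟨h.1 * x * h.1⁻¹, hin _ h.2⟩ : O)) (by
    intro a b hab
    have h : a⁻¹ * b ∈ S := QuotientGroup.leftRel_apply.mp hab
    rw [Subgroup.mem_subgroupOf, Subgroup.mem_centralizer_singleton_iff] at h
    apply Subtype.ext
    show a.1 * x * a.1⁻¹ = b.1 * x * b.1⁻¹
    calc a.1 * x * a.1⁻¹ = a.1 * (x * (a.1⁻¹ * b.1)) * b.1⁻¹ := by group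
      _ = a.1 * ((a.1⁻¹ * b.1) * x) * b.1⁻¹ := by rw [show a.1⁻¹ * b.1 * x = x * (a.1⁻¹ * b.1) from h]
      _ = b.1 * x * b.1⁻¹ := by group)
  have hf : Function.Bijective f := by
    constructor
    · intro a b
      refine Quotient.inductionOn₂' a b fun a b h => ?_
      have h' : a.1 * x * a.1⁻¹ = b.1 * x * b.1⁻¹ := congrArg Subtype.val h
      refine Quotient.sound' (QuotientGroup.leftRel_apply.mpr ?_)
      rw [Subgroup.mem_subgroupOf, Subgroup.mem_centralizer_singleton_iff]
      show a.1⁻¹ * b.1 * x = x * (a.1⁻¹ * b.1)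
      calc a.1⁻¹ * b.1 * x = a.1⁻¹ * (b.1 * x * b.1⁻¹) * b.1 := by group
        _ = a.1⁻¹ * (a.1 * x * a.1⁻¹) * b.1 := by rw [h']
        _ = x * (a.1⁻¹ * b.1) := by group
    · rintro ⟨y, hy⟩
      obtain ⟨h, hh, rfl⟩ := htr y hy
      exact ⟨QuotientGroup.mk (⟨h, hh⟩ : H), rfl⟩
  have e : S.map H.subtype = H ⊓ Subgroup.centralizer ({x} : Set G) := by
    rw [Subgroup.subgroupOf_map_subtype, inf_comm]
  rw [Subgroup.card_eq_card_quotient_mul_card_subgroup S, Nat.card_eq_of_bijective f hf,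
    Nat.card_coe_set_eq, ← e, Subgroup.card_subtype]

/-- an orbit of length divisible by 11 has no point fixed by a subgroup of order 11 -/
theorem not_fixed {H : Subgroup G} {O : Set G} (h121 : ¬ 121 ∣ Nat.card H) (hO : 11 ∣ O.ncard)
    {x : G} (hin : ∀ h ∈ H, h * x * h⁻¹ ∈ O) (htr : ∀ y ∈ O, ∃ h ∈ H, h * x * h⁻¹ = y)
    {X : Subgroup G} (hX : Nat.card X = 11) (hXH : X ≤ H) :
    x ∉ Subgroup.centralizer (X : Set G) := by
  intro hx
  refine h121 ?_
  rw [card_eq_orbit_mul hin htr, show (121 : ℕ) = 11 * 11 from rfl]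
  refine mul_dvd_mul hO ?_
  rw [← hX]
  refine Subgroup.card_dvd_of_le (le_inf hXH fun z hz => ?_)
  rw [Subgroup.mem_centralizer_singleton_iff]
  exact Subgroup.mem_centralizer_iff.mp hx z hz

/-- a product of a Frobenius group of order 55 and a central subgroup -/
theorem exists_frobenius {X Tc K : Subgroup G} {r : ℕ} (hX : Nat.card X = 11)
    (hXK : X ≤ K) (hK : K ≤ Subgroup.normalizer (X : Set G)) (hTK : Tc ≤ K)
    (hcomm : ∀ x ∈ K, ∀ y ∈ Tc, x * y = y * x) (hTcard : Nat.card Tc = 2 ^ r)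
    (hKcard : Nat.card K = 55 * 2 ^ r)
    (hCcard : Nat.card (K ⊓ Subgroup.centralizer (X : Set G) : Subgroup G) = 11 * 2 ^ r) :
    ∃ F : Subgroup G, Nat.card F = 55 ∧ X ≤ F ∧ F ⊓ Subgroup.centralizer (X : Set G) = X ∧
      F ⊓ Tc = ⊥ ∧ (∀ x ∈ F, ∀ y ∈ Tc, x * y = y * x) ∧ F ⊔ Tc = K := by
  have : Fact (Nat.Prime 5) := ⟨by norm_num⟩
  obtain ⟨y, hy⟩ := exists_prime_orderOf_dvd_card' (G := K) 5 (by rw [hKcard]; exact Dvd.intro (11 * 2 ^ r) (by ring))
  rw [← Subgroup.orderOf_coe] at hy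
  set P := Subgroup.zpowers (y : G)
  have hP : Nat.card P = 5 := by rw [Nat.card_zpowers, hy]
  have hPK : P ≤ K := Subgroup.zpowers_le.mpr y.2
  have hcop : Nat.Coprime (Nat.card P) (Nat.card X) := by rw [hP, hX]; norm_num
  have hdisj : P ⊓ X = ⊥ :=
    Subgroup.inf_eq_bot_of_coprime hcop
  set F := P ⊔ X
  have hF : Nat.card F = 55 := by
    have hnorm : P ≤ Subgroup.normalizer (X : Set G) := hPK.trans hK
    have e : (F : Set G) = (P : Set G) * (X : Set G) := Subgroup.coe_mul_of_left_le_normalizer_right P X hnorm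
    let f : P × X → F := fun p => ⟨p.1.1 * p.2.1, mul_mem (Subgroup.mem_sup_left p.1.2) (Subgroup.mem_sup_right p.2.2)⟩
    have hf : Function.Bijective f := by
      refine ⟨fun p q h => Subgroup.mul_injective_of_disjoint (disjoint_iff.mpr hdisj) (congrArg Subtype.val h), ?_⟩
      rintro ⟨z, hz⟩
      obtain ⟨u, hu, v, hv, rfl⟩ := Set.mem_mul.mp (e ▸ (show z ∈ (F : Set G) from hz))
      exact ⟨(⟨u, hu⟩, ⟨v, hv⟩), rfl⟩
    rw [← Nat.card_eq_of_bijective f hf, Nat.card_prod, hP, hX]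
  have hFK : F ≤ K := sup_le hPK hXK
  refine ⟨F, hF, le_sup_right, ?_, ?_, fun x hx => hcomm x (hFK hx), ?_⟩
  · refine (Subgroup.eq_of_le_of_card_ge (le_inf le_sup_right (le_centralizer_self hX)) ?_).symm
    have h1 := Subgroup.card_dvd_of_le (inf_le_left : F ⊓ Subgroup.centralizer (X : Set G) ≤ F)
    have h2 := Subgroup.card_dvd_of_le (inf_le_inf_right (Subgroup.centralizer (X : Set G)) hFK)
    rw [hF] at h1
    rw [hCcard] at h2
    rw [hX]
    have hg : Nat.gcd 55 (11 * 2 ^ r) = 11 := by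
      rw [show (55 : ℕ) = 11 * 5 from rfl, Nat.gcd_mul_left,
        Nat.Coprime.gcd_eq_one (Nat.Coprime.pow_right r (by norm_num : Nat.Coprime 5 2)), mul_one]
    exact Nat.le_of_dvd (by norm_num) (hg ▸ Nat.dvd_gcd h1 h2)
  · refine Subgroup.inf_eq_bot_of_coprime ?_
    rw [hF, hTcard]
    exact Nat.Coprime.pow_right r (by norm_num)
  · refine Subgroup.eq_of_le_of_card_ge (sup_le hFK hTK) ?_
    have h1 := Subgroup.card_dvd_of_le (le_sup_left : F ≤ F ⊔ Tc)
    have h2 := Subgroup.card_dvd_of_le (le_sup_right : Tc ≤ F ⊔ Tc)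
    rw [hF] at h1
    rw [hTcard] at h2
    rw [hKcard]
    exact Nat.le_of_dvd Nat.card_pos
      (Nat.Coprime.mul_dvd_of_dvd_of_dvd (Nat.Coprime.pow_right r (by norm_num)) h1 h2)

end Cfsg.Agent.Lib.FischerMTypes.Eleven
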