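import Mathlib
import Cfsg.Agent.Lib.FischerMTypes.Basic
import Cfsg.Agent.Lib.FischerMTypes.Levels
import Cfsg.Agent.Lib.FischerMTypes.Primitive
import Cfsg.Agent.Lib.FischerMTypes.Eleven.Basic

/-!
Climbing one level: transpositions fixed by a subgroup of order 11, its centraliser and normaliser
inside the centraliser of these transpositions.
-/

set_option autoImplicit false
set_option linter.style.haveILetI false
set_option linter.unusedSectionVars false

namespace Cfsg.Agent.Lib.FischerMTypes.Eleven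

open Cfsg.Agent.Lib.FischerMTypes.Basic Cfsg.Agent.Lib.FischerMTypes.Primitive
  Cfsg.Agent.Lib.FischerMTypes.Levels

variable {G : Type*} [Group G] [Finite G] {Q : Type*} [Group Q] [Finite Q]

/-- the members of `D` centralising `X` -/
abbrev fixed (D : Set G) (X : Subgroup G) : Set G := D ∩ (Subgroup.centralizer (X : Set G) : Set G)

/-- the configuration of a subgroup of order 11 -/
structure Local (D : Set G) (r : ℕ) : Prop where
  once : Once G
  ncard : ∀ X : Subgroup G, Nat.card X = 11 → (fixed D X).ncard = r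
  comm : ∀ X : Subgroup G, Nat.card X = 11 → ∀ a ∈ fixed D X, ∀ b ∈ fixed D X, Commute a b
  clos : ∀ X : Subgroup G, Nat.card X = 11 → Nat.card (Subgroup.closure (fixed D X)) = 2 ^ r
  cen : ∀ X : Subgroup G, Nat.card X = 11 → Nat.card
    (Subgroup.centralizer (X : Set G) ⊓ Subgroup.centralizer (fixed D X) : Subgroup G) = 11 * 2 ^ r
  nor : ∀ X : Subgroup G, Nat.card X = 11 → Nat.card
    (Subgroup.normalizer (X : Set G) ⊓ Subgroup.centralizer (fixed D X) : Subgroup G) = 55 * 2 ^ r

theorem mem_cent_self (a : G) : a ∈ Subgroup.centralizer ({a} : Set G) :=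
  Subgroup.mem_centralizer_singleton_iff.mpr rfl

theorem mem_cent_perp {D : Set G} {a y : G} (hy : y ∈ perp D a) :
    y ∈ Subgroup.centralizer ({a} : Set G) :=
  Subgroup.mem_centralizer_singleton_iff.mpr hy.2.2.eq.symm

/-- the centraliser of a transposition mapped onto the group one level down -/
structure Down (D : Set G) (a : G) (E : Set Q) where
  ord : orderOf a = 2
  π : Subgroup.centralizer ({a} : Set G) →* Q
  surj : Function.Surjective π
  ker : π.ker = (Subgroup.zpowers a).subgroupOf (Subgroup.centralizer ({a} : Set G))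
  mem : ∀ y (hy : y ∈ perp D a), π ⟨y, mem_cent_perp hy⟩ ∈ E
  ex : ∀ q ∈ E, ∃ y, ∃ hy : y ∈ perp D a, π ⟨y, mem_cent_perp hy⟩ = q
  inj : ∀ y (hy : y ∈ perp D a) z (hz : z ∈ perp D a),
    π ⟨y, mem_cent_perp hy⟩ = π ⟨z, mem_cent_perp hz⟩ → y = z
  far : ∀ x ∈ D, ¬ Commute a x → ∀ y ∈ D, ¬ Commute a y →
    ∃ h ∈ Subgroup.centralizer ({a} : Set G), h * x * h⁻¹ = y
  farDvd : 11 ∣ {y | y ∈ D ∧ ¬ Commute a y}.ncard

variable {D : Set G} {E : Set Q} {a : G} (M : Down D a E)

namespace Down

include M in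
theorem card_ker : Nat.card M.π.ker = 2 := by
  rw [M.ker, Nat.card_congr (Subgroup.subgroupOfEquivOfLe
    (Subgroup.zpowers_le.mpr (mem_cent_self a))).toEquiv, Nat.card_zpowers, M.ord]

include M in
theorem card_cent : Nat.card (Subgroup.centralizer ({a} : Set G)) = 2 * Nat.card Q := by
  rw [Subgroup.card_eq_card_quotient_mul_card_subgroup M.π.ker,
    Nat.card_congr (QuotientGroup.quotientKerEquivOfSurjective M.π M.surj).toEquiv, M.card_ker, mul_comm]

include M in
/-- two elements of order dividing 11 with the same image agree -/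
theorem eq_of_image {u v : Subgroup.centralizer ({a} : Set G)} (hu : u ^ 11 = 1) (hv : v ^ 11 = 1)
    (h : M.π u = M.π v) : u = v := by
  set z := v⁻¹ * u
  have hz : z ∈ M.π.ker := by rw [MonoidHom.mem_ker, map_mul, map_inv, h, inv_mul_cancel]
  have hz2 : z ^ 2 = 1 := by
    have : (⟨z, hz⟩ : M.π.ker) ^ 2 = 1 := by rw [← M.card_ker]; exact pow_card_eq_one'
    exact congrArg Subtype.val this
  have hc : Commute v z := by
    rw [M.ker, Subgroup.mem_subgroupOf] at hz
    obtain ⟨n, hn⟩ := Subgroup.mem_zpowers_iff.mp hz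
    refine Subtype.ext ?_
    show (v : G) * (z : G) = (z : G) * (v : G)
    rw [← hn]
    exact (Commute.zpow_right (Subgroup.mem_centralizer_singleton_iff.mp v.2 : Commute (v : G) a) n).eq
  have h11 : z ^ 11 = 1 := by
    have e : u = v * z := by simp [z]
    rw [e, hc.mul_pow, hv, one_mul] at hu
    exact hu
  have hz1 : z = 1 := by
    rw [show (11 : ℕ) = 2 * 5 + 1 from rfl, pow_succ, pow_mul, hz2, one_pow, one_mul] at h11
    exact h11
  exact (inv_mul_eq_one.mp hz1).symm

variable {X : Subgroup G} (hX : Nat.card X = 11) (hXH : X ≤ Subgroup.centralizer ({a} : Set G))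

/-- the image of `X` -/
abbrev img (M : Down D a E) (X : Subgroup G) : Subgroup Q :=
  (X.subgroupOf (Subgroup.centralizer ({a} : Set G))).map M.π

include hX in
theorem pow_eleven {u : Subgroup.centralizer ({a} : Set G)} (hu : (u : G) ∈ X) : u ^ 11 = 1 := by
  refine Subtype.ext ?_
  have : (⟨(u : G), hu⟩ : X) ^ 11 = 1 := by rw [← hX]; exact pow_card_eq_one'
  simpa using congrArg Subtype.val this

include M hX hXH in
theorem card_img : Nat.card (M.img X) = 11 := by
  let f : X → M.img X := fun x => ⟨M.π ⟨x.1, hXH x.2⟩, ⟨_, x.2, rfl⟩⟩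
  have hf : Function.Bijective f := by
    constructor
    · intro x y h
      have e : (⟨x.1, hXH x.2⟩ : Subgroup.centralizer ({a} : Set G)) = ⟨y.1, hXH y.2⟩ :=
        M.eq_of_image (pow_eleven hX x.2) (pow_eleven hX y.2) (congrArg Subtype.val h)
      exact Subtype.ext (congrArg (fun t : Subgroup.centralizer ({a} : Set G) => (t : G)) e)
    · rintro ⟨_, u, hu, rfl⟩
      exact ⟨⟨u.1, hu⟩, rfl⟩
  rw [← Nat.card_eq_of_bijective f hf, hX]

include M hX hXH in
theorem mem_cen_iff (h : Subgroup.centralizer ({a} : Set G)) :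
    (h : G) ∈ Subgroup.centralizer (X : Set G) ↔ M.π h ∈ Subgroup.centralizer (M.img X : Set Q) := by
  simp only [Subgroup.mem_centralizer_iff, SetLike.mem_coe]
  constructor
  · rintro hh _ ⟨u, hu, rfl⟩
    rw [← map_mul, ← map_mul]
    exact congrArg _ (Subtype.ext (hh u.1 hu))
  · intro hh x hx
    have h1 := hh _ ⟨⟨x, hXH hx⟩, hx, rfl⟩
    have e := M.eq_of_image (u := h * ⟨x, hXH hx⟩ * h⁻¹) (v := ⟨x, hXH hx⟩)
      (by rw [conj_pow, pow_eleven hX hx]; simp) (pow_eleven hX hx)
      (by rw [map_mul, map_mul, map_inv, ← h1, mul_inv_cancel_right])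
    exact (mul_inv_eq_iff_eq_mul.mp (congrArg Subtype.val e)).symm

include M hX hXH in
theorem mem_nor_iff (h : Subgroup.centralizer ({a} : Set G)) :
    (h : G) ∈ Subgroup.normalizer (X : Set G) ↔ M.π h ∈ Subgroup.normalizer (M.img X : Set Q) := by
  constructor
  · intro hh
    refine mem_normalizer_of_conj ?_
    rintro _ ⟨u, hu, rfl⟩
    exact ⟨h * u * h⁻¹, conj_mem_of_mem_normalizer hh _ hu, by simp⟩
  · intro hh
    refine mem_normalizer_of_conj fun x hx => ?_
    obtain ⟨u, hu, he⟩ := conj_mem_of_mem_normalizer hh _ ⟨⟨x, hXH hx⟩, hx, rfl⟩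
    have e := M.eq_of_image (u := h * ⟨x, hXH hx⟩ * h⁻¹) (v := u)
      (by rw [conj_pow, pow_eleven hX hx]; simp) (pow_eleven hX hu)
      (by rw [map_mul, map_mul, map_inv, he])
    have e' : (h : G) * x * (h : G)⁻¹ = (u : G) := congrArg Subtype.val e
    rw [e']
    exact hu

variable (hconj : ∀ g : G, ∀ d ∈ D, g * d * g⁻¹ ∈ D)

include M hconj in
theorem commute_iff (h : Subgroup.centralizer ({a} : Set G)) {y : G} (hy : y ∈ perp D a) :
    Commute (h : G) y ↔ Commute (M.π h) (M.π ⟨y, mem_cent_perp hy⟩) := by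
  constructor
  · intro hc
    exact (Commute.map (show Commute h ⟨y, mem_cent_perp hy⟩ from Subtype.ext hc.eq) M.π)
  · intro hc
    have ha : (h : G) * a * (h : G)⁻¹ = a := by
      rw [Subgroup.mem_centralizer_singleton_iff.mp h.2, mul_inv_cancel_right]
    have hy' : (h : G) * y * (h : G)⁻¹ ∈ perp D a := by
      refine ⟨hconj _ _ hy.1, fun e => hy.2.1 ?_, ?_⟩
      · exact mul_left_cancel (mul_right_cancel (e.trans ha.symm))
      · have := (commute_conj_iff (h : G) a y).mpr hy.2.2
        simp only [MulAut.conj_apply, ha] at this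
        exact this
    have e := M.inj _ hy' _ hy (by
      rw [show (⟨(h : G) * y * (h : G)⁻¹, mem_cent_perp hy'⟩ : Subgroup.centralizer ({a} : Set G)) =
          h * ⟨y, mem_cent_perp hy⟩ * h⁻¹ from rfl, map_mul, map_mul, map_inv, hc.eq,
        mul_inv_cancel_right])
    exact mul_inv_eq_iff_eq_mul.mp e

variable (hQ1 : Once Q)

include M hX hXH hQ1 in
theorem no_far {x : G} (hx : x ∈ D) (hax : ¬ Commute a x)
    (hconj : ∀ g : G, ∀ d ∈ D, g * d * g⁻¹ ∈ D) : x ∉ Subgroup.centralizer (X : Set G) := by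
  refine not_fixed (H := Subgroup.centralizer ({a} : Set G)) (O := {y | y ∈ D ∧ ¬ Commute a y}) ?_
    M.farDvd (fun h hh => ⟨hconj h x hx, fun hc => hax ?_⟩) (fun y hy => M.far x hx hax y hy.1 hy.2) hX hXH
  · rw [M.card_cent]
    exact fun h => hQ1.2 (Nat.Coprime.dvd_of_dvd_mul_left (by norm_num) h)
  · have := (commute_conj_iff h a x).mp
    simp only [MulAut.conj_apply, Subgroup.mem_centralizer_singleton_iff.mp hh, mul_inv_cancel_right] at this
    exact this hc

include M hX hXH hQ1 hconj in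
theorem fixed_eq (haD : a ∈ D) :
    fixed D X = insert a {y | ∃ hy : y ∈ perp D a, M.π ⟨y, mem_cent_perp hy⟩ ∈ fixed E (M.img X)} := by
  have key : ∀ y (hy : y ∈ perp D a), y ∈ Subgroup.centralizer (X : Set G) ↔
      M.π ⟨y, mem_cent_perp hy⟩ ∈ Subgroup.centralizer (M.img X : Set Q) :=
    fun y hy => M.mem_cen_iff hX hXH ⟨y, mem_cent_perp hy⟩
  ext y
  constructor
  · rintro ⟨hy, hyX⟩
    by_cases h1 : y = a
    · exact Or.inl h1
    by_cases h2 : Commute a y
    · exact Or.inr ⟨⟨hy, h1, h2⟩, M.mem y ⟨hy, h1, h2⟩, (key y ⟨hy, h1, h2⟩).mp hyX⟩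
    · exact absurd hyX (M.no_far hX hXH hQ1 hy h2 hconj)
  · rintro (rfl | ⟨hy, hy'⟩)
    · refine ⟨haD, ?_⟩
      rw [SetLike.mem_coe, Subgroup.mem_centralizer_iff]
      exact fun x hx => Subgroup.mem_centralizer_singleton_iff.mp (hXH hx)
    · exact ⟨hy.1, (key y hy).mpr hy'.2⟩

end Down

/-- one level up -/
theorem local_succ (hOnce : Once G) {r : ℕ} (hconj : ∀ g : G, ∀ d ∈ D, g * d * g⁻¹ ∈ D)
    (haD : a ∈ D) (M : ∀ b ∈ D, Down D b E) (hQ : Local E r) : Local D (r + 1) := by
  have : Fact (Nat.Prime 11) := ⟨by norm_num⟩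
  have hex : ∀ X : Subgroup G, Nat.card X = 11 → ∃ b ∈ D, X ≤ Subgroup.centralizer ({b} : Set G) := by
    intro X hX
    obtain ⟨u, hu⟩ := exists_prime_orderOf_dvd_card' (G := Subgroup.centralizer ({a} : Set G)) 11
      (by rw [(M a haD).card_cent]; exact dvd_mul_of_dvd_right hQ.once.1 2)
    rw [← Subgroup.orderOf_coe] at hu
    obtain ⟨g, hg⟩ := exists_conj hOnce (X := Subgroup.zpowers (u : G)) (by rw [Nat.card_zpowers, hu]) hX
    refine ⟨g * a * g⁻¹, hconj g a haD, ?_⟩
    rw [← hg]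
    rintro _ ⟨v, hv, rfl⟩
    obtain ⟨n, rfl⟩ := Subgroup.mem_zpowers_iff.mp hv
    rw [Subgroup.mem_centralizer_singleton_iff]
    have hc : Commute ((u : G) ^ n) a :=
      Commute.zpow_left (Subgroup.mem_centralizer_singleton_iff.mp u.2) n
    exact ((commute_conj_iff g ((u : G) ^ n) a).mpr hc).eq
  suffices hall : ∀ X : Subgroup G, Nat.card X = 11 →
      (fixed D X).ncard = r + 1 ∧ (∀ u ∈ fixed D X, ∀ v ∈ fixed D X, Commute u v) ∧
      Nat.card (Subgroup.closure (fixed D X)) = 2 ^ (r + 1) ∧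
      Nat.card (Subgroup.centralizer (X : Set G) ⊓ Subgroup.centralizer (fixed D X) : Subgroup G) =
        11 * 2 ^ (r + 1) ∧
      Nat.card (Subgroup.normalizer (X : Set G) ⊓ Subgroup.centralizer (fixed D X) : Subgroup G) =
        55 * 2 ^ (r + 1) from
    ⟨hOnce, fun X h => (hall X h).1, fun X h => (hall X h).2.1, fun X h => (hall X h).2.2.1,
      fun X h => (hall X h).2.2.2.1, fun X h => (hall X h).2.2.2.2⟩
  intro X hX
  obtain ⟨b, hb, hXH⟩ := hex X hX
  let N := M b hb
  set H := Subgroup.centralizer ({b} : Set G)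
  set Y := N.img X
  have hY : Nat.card Y = 11 := N.card_img hX hXH
  have hfix := N.fixed_eq hX hXH hconj hQ.once hb
  set T' := {y | ∃ hy : y ∈ perp D b, N.π ⟨y, mem_cent_perp hy⟩ ∈ fixed E Y}
  have hmem : ∀ h : G, h ∈ Subgroup.centralizer (fixed D X) ↔
      ∃ hh : h ∈ H, N.π ⟨h, hh⟩ ∈ Subgroup.centralizer (fixed E Y) := by
    intro h
    simp only [hfix, Subgroup.mem_centralizer_iff]
    constructor
    · intro hh
      have hH : h ∈ H := Subgroup.mem_centralizer_singleton_iff.mpr (hh b (Or.inl rfl)).symm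
      refine ⟨hH, fun q hq => ?_⟩
      obtain ⟨y, hy, rfl⟩ := N.ex q hq.1
      exact ((N.commute_iff hconj ⟨h, hH⟩ hy).mp (hh y (Or.inr ⟨hy, hq⟩)).symm).eq.symm
    · rintro ⟨hH, hh⟩ y (rfl | ⟨hy, hy'⟩)
      · exact (Subgroup.mem_centralizer_singleton_iff.mp hH).symm
      · exact ((N.commute_iff hconj ⟨h, hH⟩ hy).mpr (hh _ hy').symm).eq.symm
  have hcardmap : ∀ (A : Subgroup G) (B : Subgroup Q), A ≤ H →
      (∀ h : H, (h : G) ∈ A ↔ N.π h ∈ B) → Nat.card A = 2 * Nat.card B := by
    intro A B hA hAB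
    have e : A.subgroupOf H = B.comap N.π := by
      ext h
      rw [Subgroup.mem_subgroupOf, Subgroup.mem_comap]
      exact hAB h
    rw [← Nat.card_congr (Subgroup.subgroupOfEquivOfLe hA).toEquiv, e, card_comap N.surj, N.card_ker]
  refine ⟨?_, ?_, ?_, ?_, ?_⟩
  · rw [hfix, Set.ncard_insert_of_notMem (fun h => h.1.2.1 rfl), ← hQ.ncard Y hY]
    congr 1
    exact Set.ncard_congr (fun y hy => N.π ⟨y, mem_cent_perp hy.1⟩) (fun y hy => hy.2)
      (fun y z hy hz h => N.inj y hy.1 z hz.1 h)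
      (fun q hq => by
        obtain ⟨y, hy, rfl⟩ := N.ex q hq.1
        exact ⟨y, ⟨hy, hq⟩, rfl⟩)
  · rw [hfix]
    rintro u (rfl | ⟨hu, hu'⟩) v (rfl | ⟨hv, hv'⟩)
    · exact Commute.refl _
    · exact hv.2.2
    · exact hu.2.2.symm
    · exact (N.commute_iff hconj ⟨u, mem_cent_perp hu⟩ hv).mpr (hQ.comm Y hY _ hu' _ hv')
  · have hle : Subgroup.closure (fixed D X) ≤ H := by
      rw [hfix, Subgroup.closure_le]
      rintro y (rfl | ⟨hy, -⟩)
      · exact mem_cent_self _
      · exact mem_cent_perp hy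
    have hbmem : b ∈ Subgroup.closure (fixed D X) := Subgroup.subset_closure (hfix ▸ Or.inl rfl)
    rw [hcardmap _ (Subgroup.closure (fixed E Y)) hle, hQ.clos Y hY, pow_succ']
    intro h
    constructor
    · intro hh
      have hgen : ∀ g ∈ Subgroup.closure (fixed D X), ∀ hg : g ∈ H,
          N.π ⟨g, hg⟩ ∈ Subgroup.closure (fixed E Y) := by
        intro g hg
        induction hg using Subgroup.closure_induction with
        | mem y hy =>
          intro hgH
          rcases hfix ▸ hy with rfl | ⟨hy1, hy2⟩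
          · have : N.π ⟨y, hgH⟩ = 1 := by
              rw [← MonoidHom.mem_ker, N.ker, Subgroup.mem_subgroupOf]
              exact Subgroup.mem_zpowers _
            rw [this]
            exact one_mem _
          · exact Subgroup.subset_closure hy2
        | one => intro hgH; exact (map_one N.π).symm ▸ one_mem _
        | mul x y hx hy ihx ihy =>
          intro hgH
          rw [show (⟨x * y, hgH⟩ : H) = ⟨x, hle hx⟩ * ⟨y, hle hy⟩ from rfl, map_mul]
          exact mul_mem (ihx _) (ihy _)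
        | inv x hx ihx =>
          intro hgH
          rw [show (⟨x⁻¹, hgH⟩ : H) = ⟨x, hle hx⟩⁻¹ from rfl, map_inv]
          exact inv_mem (ihx _)
      exact hgen h.1 hh h.2
    · intro hh
      have hlift : ∀ q ∈ Subgroup.closure (fixed E Y),
          ∃ g : H, (g : G) ∈ Subgroup.closure (fixed D X) ∧ N.π g = q := by
        intro q hq
        induction hq using Subgroup.closure_induction with
        | mem q hq =>
          obtain ⟨y, hy, rfl⟩ := N.ex q hq.1
          exact ⟨_, Subgroup.subset_closure (hfix ▸ Or.inr ⟨hy, hq⟩), rfl⟩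
        | one => exact ⟨1, one_mem _, map_one _⟩
        | mul p q _ _ ihp ihq =>
          obtain ⟨x, hx, rfl⟩ := ihp
          obtain ⟨y, hy, rfl⟩ := ihq
          exact ⟨x * y, mul_mem hx hy, map_mul _ _ _⟩
        | inv p _ ihp =>
          obtain ⟨x, hx, rfl⟩ := ihp
          exact ⟨x⁻¹, inv_mem hx, map_inv _ _⟩
      obtain ⟨g, hg, hgh⟩ := hlift _ hh
      have hk : g⁻¹ * h ∈ N.π.ker := by rw [MonoidHom.mem_ker, map_mul, map_inv, hgh, inv_mul_cancel]
      rw [N.ker, Subgroup.mem_subgroupOf] at hk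
      have := mul_mem hg (Subgroup.zpowers_le.mpr hbmem hk)
      simpa using this
  · rw [hcardmap _ (Subgroup.centralizer (Y : Set Q) ⊓ Subgroup.centralizer (fixed E Y))
      (fun h hh => ((hmem h).mp (Subgroup.mem_inf.mp hh).2).1), hQ.cen Y hY, pow_succ', mul_left_comm]
    intro h
    refine and_congr (N.mem_cen_iff hX hXH h) ?_
    exact (hmem h.1).trans ⟨fun ⟨_, hh⟩ => hh, fun hh => ⟨h.2, hh⟩⟩
  · rw [hcardmap _ (Subgroup.normalizer (Y : Set Q) ⊓ Subgroup.centralizer (fixed E Y))
      (fun h hh => ((hmem h).mp (Subgroup.mem_inf.mp hh).2).1), hQ.nor Y hY, pow_succ', mul_left_comm]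
    intro h
    refine and_congr (N.mem_nor_iff hX hXH h) ?_
    exact (hmem h.1).trans ⟨fun ⟨_, hh⟩ => hh, fun hh => ⟨h.2, hh⟩⟩

/-- the normaliser permutes the fixed transpositions -/
theorem normalizer_conj_fixed (hconj : ∀ g : G, ∀ d ∈ D, g * d * g⁻¹ ∈ D) {X : Subgroup G} {n y : G}
    (hn : n ∈ Subgroup.normalizer (X : Set G)) (hy : y ∈ fixed D X) : n * y * n⁻¹ ∈ fixed D X := by
  refine ⟨hconj n y hy.1, ?_⟩
  rw [SetLike.mem_coe, Subgroup.mem_centralizer_iff]
  intro x hx
  have h1 := Subgroup.mem_centralizer_iff.mp hy.2 (n⁻¹ * x * n⁻¹⁻¹)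
    (conj_mem_of_mem_normalizer (inv_mem hn) x hx)
  rw [inv_inv] at h1
  calc x * (n * y * n⁻¹) = n * ((n⁻¹ * x * n) * y) * n⁻¹ := by group
    _ = n * (y * (n⁻¹ * x * n)) * n⁻¹ := by rw [h1]
    _ = n * y * n⁻¹ * x := by group

/-- the action of the normaliser on the fixed transpositions -/
noncomputable def permHom (hconj : ∀ g : G, ∀ d ∈ D, g * d * g⁻¹ ∈ D) (X : Subgroup G) :
    Subgroup.normalizer (X : Set G) →* Equiv.Perm (fixed D X) where
  toFun n :=
    { toFun := fun y => ⟨n.1 * y.1 * n.1⁻¹, normalizer_conj_fixed hconj n.2 y.2⟩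
      invFun := fun y => ⟨n.1⁻¹ * y.1 * n.1⁻¹⁻¹, normalizer_conj_fixed hconj (inv_mem n.2) y.2⟩
      left_inv := fun y => Subtype.ext (by group)
      right_inv := fun y => Subtype.ext (by group) }
  map_one' := Equiv.ext fun y => Subtype.ext (by simp)
  map_mul' n m := Equiv.ext fun y => Subtype.ext (by simp [mul_assoc])

/-- the normaliser by the kernel of its action -/
theorem card_normalizer_eq (hconj : ∀ g : G, ∀ d ∈ D, g * d * g⁻¹ ∈ D) {r : ℕ} (hL : Local D r)
    {X : Subgroup G} (hX : Nat.card X = 11) :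
    Nat.card (permHom hconj X).range ∣ r.factorial ∧
      Nat.card (Subgroup.normalizer (X : Set G)) = 55 * 2 ^ r * Nat.card (permHom hconj X).range := by
  set f := permHom hconj X
  constructor
  · have h := Subgroup.card_subgroup_dvd_card f.range
    rwa [Nat.card_perm, Nat.card_coe_set_eq, hL.ncard X hX] at h
  · have hker : f.ker =
        (Subgroup.normalizer (X : Set G) ⊓ Subgroup.centralizer (fixed D X)).subgroupOf
          (Subgroup.normalizer (X : Set G)) := by
      ext n
      rw [MonoidHom.mem_ker, Subgroup.mem_subgroupOf, Subgroup.mem_inf, Subgroup.mem_centralizer_iff]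
      constructor
      · intro hn
        refine ⟨n.2, fun y hy => ?_⟩
        have h1 : n.1 * y * n.1⁻¹ = y := congrArg Subtype.val (Equiv.ext_iff.mp hn ⟨y, hy⟩)
        exact (mul_inv_eq_iff_eq_mul.mp h1).symm
      · intro hn
        refine Equiv.ext fun y => Subtype.ext ?_
        show n.1 * y.1 * n.1⁻¹ = y.1
        rw [← hn.2 y.1 y.2, mul_inv_cancel_right]
    rw [Subgroup.card_eq_card_quotient_mul_card_subgroup f.ker,
      Nat.card_congr (QuotientGroup.quotientKerEquivRange f).toEquiv, hker,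
      Nat.card_congr (Subgroup.subgroupOfEquivOfLe inf_le_left).toEquiv, hL.nor X hX, mul_comm]

/-- the normaliser of a subgroup of order 11 inside the centraliser of its fixed transpositions -/
theorem Local.frobenius {r : ℕ} (hL : Local D r) {X : Subgroup G} (hX : Nat.card X = 11) :
    ∃ F : Subgroup G, Nat.card F = 55 ∧ X ≤ F ∧ F ⊓ Subgroup.centralizer (X : Set G) = X ∧
      F ⊓ Subgroup.closure (fixed D X) = ⊥ ∧
      (∀ x ∈ F, ∀ y ∈ Subgroup.closure (fixed D X), x * y = y * x) ∧
      F ⊔ Subgroup.closure (fixed D X) =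
        Subgroup.normalizer (X : Set G) ⊓ Subgroup.centralizer (fixed D X) := by
  refine exists_frobenius hX ?_ inf_le_left ?_ ?_ (hL.clos X hX) (hL.nor X hX) ?_
  · refine le_inf Subgroup.le_normalizer fun x hx => ?_
    rw [Subgroup.mem_centralizer_iff]
    exact fun y hy => (Subgroup.mem_centralizer_iff.mp hy.2 x hx).symm
  · refine (Subgroup.closure_le _).mpr fun y hy => Subgroup.mem_inf.mpr ⟨?_, ?_⟩
    · exact Subgroup.centralizer_le_normalizer (X : Set G) hy.2
    · rw [Subgroup.mem_centralizer_iff]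
      exact fun z hz => hL.comm X hX z hz y hy
  · intro x hx y hy
    exact (Levels.commute_closure (fun s hs => (Subgroup.mem_centralizer_iff.mp hx.2 s hs).symm) y hy).eq
  · rw [inf_assoc, inf_comm (Subgroup.centralizer (fixed D X)), ← inf_assoc,
      inf_eq_right.mpr (Subgroup.centralizer_le_normalizer (X : Set G)), hL.cen X hX]

end Cfsg.Agent.Lib.FischerMTypes.Eleven
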