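import Mathlib
import Cfsg.Agent.Lib.FischerMTypes.RankM22
import Cfsg.Agent.Lib.FischerMTypes.OrderWidth
import Cfsg.Agent.Lib.FischerMTypes.M23Data
import Cfsg.Agent.Lib.FischerMTypes.M24Data
import Cfsg.Agent.Lib.FischerMTypes.StepGroup
import Cfsg.Agent.Lib.FischerMTypes.Eleven.Step
import Cfsg.Agent.Lib.FischerMTypes.Eleven.Unitary

/-!
Subgroups of order 11 in the groups of types M(22), M(23), M(24).
-/

set_option autoImplicit false
set_option linter.style.haveILetI false
set_option linter.unusedSectionVars false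

namespace Cfsg.Agent.Lib.FischerMTypes.Eleven

open Cfsg.Agent.Lib.FischerMTypes.Basic Cfsg.Agent.Lib.FischerMTypes.Primitive
  Cfsg.Agent.Lib.FischerMTypes.Levels Cfsg.Agent.Lib.FischerMTypes.Unique
  Cfsg.Agent.Lib.FischerMTypes.Types
  Cfsg.Agent.Lib.FischerMTypes.PointModel Cfsg.Agent.Lib.FischerMTypes.TraceCounts

universe u

variable {G : Type u} [Group G] [Finite G] {D : Set G} {Q : Type*} [Group Q] [Finite Q] {E : Set Q}

theorem once_of_eq {n m : ℕ} (h : Nat.card Q = n) (hn : n = 11 * m) (hm : ¬ 11 ∣ m) : Once Q := by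
  refine ⟨⟨m, by rw [h, hn]⟩, fun hd => hm ?_⟩
  rw [h, hn, show (121 : ℕ) = 11 * 11 from rfl] at hd
  exact (Nat.mul_dvd_mul_iff_left (by norm_num)).mp hd

/-- a quotient map of `closure (perp D b)` with central kernel gives the data of one step down -/
noncomputable def downOf (hD : Cfsg.IsThreeTranspositionGroup D) (hsub : SubsetEq D) {b : G} (hb : b ∈ D)
    (hce : Subgroup.closure (perp D b) = Subgroup.centralizer ({b} : Set G))
    (hcen : Subgroup.center ↥(Subgroup.closure (perp D b)) =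
      (Subgroup.zpowers b).subgroupOf (Subgroup.closure (perp D b)))
    (π : ↥(Subgroup.closure (perp D b)) →* Q) (surj : Function.Surjective π)
    (ker : π.ker = Subgroup.center ↥(Subgroup.closure (perp D b)))
    (img : E = π '' {x | (x : G) ∈ perp D b})
    (far : ∀ x ∈ D, ¬ Commute b x → ∀ y ∈ D, ¬ Commute b y →
      ∃ h ∈ Subgroup.closure (perp D b), h * x * h⁻¹ = y)
    (farDvd : 11 ∣ {y | y ∈ D ∧ ¬ Commute b y}.ncard) : Down D b E :=
  { ord := hD.1.1 b hb
    π := π.comp (MulEquiv.subgroupCongr hce.symm).toMonoidHom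
    surj := surj.comp (MulEquiv.subgroupCongr hce.symm).surjective
    ker := by
      ext z
      rw [MonoidHom.mem_ker, MonoidHom.comp_apply, ← MonoidHom.mem_ker, ker, hcen, Subgroup.mem_subgroupOf,
        Subgroup.mem_subgroupOf]
      rfl
    mem := fun y hy => by
      rw [img]
      exact ⟨⟨y, Subgroup.subset_closure hy⟩, hy, rfl⟩
    ex := fun q hq => by
      rw [img] at hq
      obtain ⟨⟨y, hyc⟩, hy, rfl⟩ := hq
      exact ⟨y, hy, rfl⟩
    inj := fun y hy z hz h => by
      refine im_injective' hD hsub hb hy hz (QuotientGroup.eq.mpr ?_)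
      have h' : π ⟨y, Subgroup.subset_closure hy⟩ = π ⟨z, Subgroup.subset_closure hz⟩ := h
      rw [← ker, MonoidHom.mem_ker, map_mul, map_inv, h', inv_mul_cancel]
    far := fun x hx hax y hy hay => by
      obtain ⟨h, hh, he⟩ := far x hx hax y hy hay
      exact ⟨h, hce ▸ hh, he⟩
    farDvd := farDvd }

theorem centralizer_eq_zpowers {X : Subgroup G} {x : G} (hX : X = Subgroup.zpowers x) :
    Subgroup.centralizer (X : Set G) = Subgroup.centralizer ({x} : Set G) := by
  subst hX
  rw [Subgroup.zpowers_eq_closure, Subgroup.centralizer_closure]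

theorem exists_gen {X : Subgroup G} (hX : Nat.card X = 11) : ∃ x, orderOf x = 11 ∧ X = Subgroup.zpowers x := by
  have : Fact (Nat.Prime 11) := ⟨by norm_num⟩
  obtain ⟨x, hx⟩ := exists_prime_orderOf_dvd_card' (G := X) 11 (by rw [hX])
  rw [← Subgroup.orderOf_coe] at hx
  exact ⟨x, hx, (Subgroup.eq_of_le_of_card_ge (Subgroup.zpowers_le.mpr x.2)
    (by rw [Nat.card_zpowers, hx, hX])).symm⟩

section M22

variable {F : Type} [Field F] [Fintype F]

/-- the projective unitary group with the images of the transpositions at `a` -/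
theorem local_zero (S : Sys D F) {a : G} (ha : a ∈ D) :
    let K := ↥(Subgroup.closure (perp D a)) ⧸ Subgroup.center ↥(Subgroup.closure (perp D a))
    let E : Set K := QuotientGroup.mk '' {x | (x : G) ∈ perp D a}
    Local E 0 := by
  intro K E
  set C := S.ctx a ha
  have hK : Nat.card K = 2 ^ 15 * 3 ^ 6 * 5 * 7 * 11 := by rw [C.card_quot, C.card_psu]
  have hK1 : Once K := once_of_eq hK (m := 2 ^ 15 * 3 ^ 6 * 5 * 7) (by norm_num) (by norm_num)
  have hcen : ∀ X : Subgroup K, Nat.card X = 11 → Nat.card (Subgroup.centralizer (X : Set K)) = 11 := by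
    intro X hX
    refine le_antisymm ?_ (hX.ge.trans (Subgroup.card_le_of_le (le_centralizer_self hX)))
    obtain ⟨x, hx, rfl⟩ := exists_gen hX
    rw [centralizer_eq_zpowers rfl]
    exact card_centralizer_quot C.hF C.φ C.surj C.ker_eq hK hx
  have hnon : ∀ X : Subgroup K, Nat.card X = 11 → fixed E X = ∅ := by
    intro X hX
    rw [Set.eq_empty_iff_forall_notMem]
    rintro q ⟨⟨⟨y, hyc⟩, hy, rfl⟩, hqX⟩
    have hEn : E.ncard = 693 := by
      rw [← C.ncard_perp]
      refine (Set.ncard_congr (fun z hz => (QuotientGroup.mk ⟨z, Subgroup.subset_closure hz⟩ : K))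
        (fun z hz => (⟨⟨z, Subgroup.subset_closure hz⟩, hz, rfl⟩ : (QuotientGroup.mk ⟨z, Subgroup.subset_closure hz⟩ : K) ∈ E))
        (fun z w hz hw h => im_injective' S.hD (C.hsub) ha hz hw h) ?_).symm
      rintro _ ⟨⟨z, hzc⟩, hz, rfl⟩
      exact ⟨z, hz, rfl⟩
    refine not_fixed (H := ⊤) (O := E) ?_ ?_ ?_ ?_ hX le_top hqX
    · rw [Subgroup.card_top]; exact hK1.2
    · rw [hEn]; norm_num
    · intro h _
      obtain ⟨k, rfl⟩ := QuotientGroup.mk_surjective h
      exact ⟨k * ⟨y, hyc⟩ * k⁻¹, conj_mem_of_mem_closure (perp_closed S.hD a) k.2 y hy, rfl⟩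
    · rintro _ ⟨⟨z, hzc⟩, hz, rfl⟩
      obtain ⟨h, hh, he⟩ := S.exists_conj_perp ha hy hz
      refine ⟨QuotientGroup.mk ⟨h, hh⟩, trivial, ?_⟩
      rw [← QuotientGroup.mk_inv, ← QuotientGroup.mk_mul, ← QuotientGroup.mk_mul]
      exact congrArg QuotientGroup.mk (Subtype.ext he)
  refine ⟨hK1, fun X hX => by rw [hnon X hX, Set.ncard_empty],
    fun X hX => by rw [hnon X hX]; exact fun _ h => absurd h (Set.notMem_empty _),
    fun X hX => by rw [hnon X hX, Subgroup.closure_empty, Subgroup.card_bot, pow_zero],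
    fun X hX => ?_, fun X hX => ?_⟩
  · have e : Subgroup.centralizer (∅ : Set K) = ⊤ := by
      rw [eq_top_iff]
      exact fun g _ => Subgroup.mem_centralizer_iff.mpr fun h hh => absurd hh (Set.notMem_empty h)
    rw [hnon X hX, e, inf_top_eq, hcen X hX, pow_zero, mul_one]
  · have e : Subgroup.centralizer (∅ : Set K) = ⊤ := by
      rw [eq_top_iff]
      exact fun g _ => Subgroup.mem_centralizer_iff.mpr fun h hh => absurd hh (Set.notMem_empty h)
    rw [hnon X hX, e, inf_top_eq, pow_zero, mul_one]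
    obtain ⟨k, hk, hcard⟩ := exists_normalizer_mul hX
    rw [hcen X hX] at hcard
    have hidx := index_normalizer_mod hK1 hX
    have h := (Subgroup.normalizer (X : Set K)).card_mul_index
    rw [hcard, hK] at h
    have hk' : k = 1 ∨ k = 2 ∨ k = 5 ∨ k = 10 := by
      have := Nat.le_of_dvd (by norm_num) hk
      interval_cases k <;> simp_all
    rcases hk' with rfl | rfl | rfl | rfl <;> omega

/-- type M(22) -/
theorem local_one (S : Sys D F) : Local D 1 := by
  obtain ⟨a, ha, -⟩ := S.hprim.2.1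
  set C := S.ctx a ha
  refine local_succ (E := (QuotientGroup.mk : _ → ↥(Subgroup.closure (perp D a)) ⧸
      Subgroup.center ↥(Subgroup.closure (perp D a))) '' {x | (x : G) ∈ perp D a}) ?_ (r := 0)
    S.hD.2.1 ha (fun b hb => ?_) (local_zero S ha)
  · exact once_of_eq (OrderWidth.card_group S) (m := 2 ^ 17 * 3 ^ 9 * 5 ^ 2 * 7 * 13) (by norm_num) (by norm_num)
  · let L : Step.Loc D b ((QuotientGroup.mk : _ → ↥(Subgroup.closure (perp D a)) ⧸
        Subgroup.center ↥(Subgroup.closure (perp D a))) '' {x | (x : G) ∈ perp D a}) :=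
      Nonempty.some (by
        obtain ⟨g, rfl⟩ := S.hprim.1 a ha b hb
        exact M23Data.loc_conj S.hD
          (⟨QuotientGroup.mk' _, QuotientGroup.mk'_surjective _, QuotientGroup.ker_mk' _, rfl⟩) g)
    refine downOf S.hD C.hsub hb (StabilizerM22.centralizer_eq S hb) (StabilizerM22.center_eq S hb)
      L.π L.surj L.ker L.img (fun x hx hbx y hy hby => ?_) ?_
    · exact (RankM22.rankData S).trans_far b hb x hx hbx y hy hby
    · have h := (RankM22.rankData S).ncard_off hb
      omega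

end M22

/-- type M(22), from the definition -/
theorem local_M22 (hD : Cfsg.IsThreeTranspositionGroup D) (hprim : Cfsg.IsPrimitiveUnderConj D)
    (h : Cfsg.IsOfTypeM22 G D) :
    Local D 1 ∧ Nat.card G = 2 ^ 17 * 3 ^ 9 * 5 ^ 2 * 7 * 11 * 13 := by
  obtain ⟨F, _, _, ⟨S⟩⟩ := exists_sys hD hprim h
  exact ⟨local_one S, OrderWidth.card_group S⟩

section Climb

variable {N A k n T n₁ : ℕ}

/-- one step up -/
theorem local_step (S : Step.StepData D E N A k n T) (P : Step.Pinned D N A k n n₁) {r : ℕ}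
    (hQ : Local E r) (hG : Once G) {f : ℕ} (hF : n₁ * f + N * (1 + A) = N * N) (hf : 11 ∣ f) :
    Local D (r + 1) := by
  obtain ⟨a, ha, -⟩ := S.hprim.2.1
  refine local_succ (E := E) hG S.hD.2.1 ha (fun b hb => ?_) hQ
  exact downOf S.hD S.hsub hb (Step.StepData.centralizer_eq S P hb) (S.center_eq P.small hb)
    (S.loc b hb).π (S.loc b hb).surj (S.loc b hb).ker (S.loc b hb).img
    (fun x hx hbx y hy hby => Step.StepData.trans_far S P hb hx hbx hy hby)
    (by rw [Step.StepData.ncard_far S P hb hF]; exact hf)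

end Climb

/-- type M(23), from the definition -/
theorem local_M23 (hD : Cfsg.IsThreeTranspositionGroup D) (hprim : Cfsg.IsPrimitiveUnderConj D)
    (h : Cfsg.IsOfTypeM23 G D) :
    Local D 2 ∧ Nat.card G = 2 ^ 18 * 3 ^ 13 * 5 ^ 2 * 7 * 11 * 13 * 17 * 23 := by
  obtain ⟨Q, iQ, iQ', E, F, iF, iF', S22, ⟨S⟩⟩ := M23Data.exists_step hD hprim h
  have P := M23Data.pinned hD hprim h S22 S
  have hG : Nat.card G = 2 ^ 18 * 3 ^ 13 * 5 ^ 2 * 7 * 11 * 13 * 17 * 23 := by
    rw [S.card_group P, S.ncard_class P (F := 28160) (by norm_num), OrderWidth.card_group S22]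
    norm_num
  exact ⟨local_step S P (local_one S22)
    (once_of_eq hG (m := 2 ^ 18 * 3 ^ 13 * 5 ^ 2 * 7 * 13 * 17 * 23) (by norm_num) (by norm_num))
    (f := 28160) (by norm_num) (by norm_num), hG⟩

/-- type M(24), from the definition -/
theorem local_M24 (hD : Cfsg.IsThreeTranspositionGroup D) (hprim : Cfsg.IsPrimitiveUnderConj D)
    (h : Cfsg.IsOfTypeM24 G D) :
    Local D 3 ∧ Nat.card G = 2 ^ 22 * 3 ^ 16 * 5 ^ 2 * 7 ^ 3 * 11 * 13 * 17 * 23 * 29 := by
  obtain ⟨Q, iQ, iQ', E, Q₂, i₂, i₂', E₂, F, iF, iF', S22, S23, hM, ⟨S⟩⟩ :=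
    M24Data.exists_step hD hprim h
  have P := M24Data.pinned S22 S23 hM h S
  obtain ⟨hQ, hQcard⟩ := local_M23 S23.hD S23.hprim hM
  have hG : Nat.card G = 2 ^ 22 * 3 ^ 16 * 5 ^ 2 * 7 ^ 3 * 11 * 13 * 17 * 23 * 29 := by
    rw [S.card_group P, S.ncard_class P (F := 275264) (by norm_num), hQcard]
    norm_num
  exact ⟨local_step S P hQ
    (once_of_eq hG (m := 2 ^ 22 * 3 ^ 16 * 5 ^ 2 * 7 ^ 3 * 13 * 17 * 23 * 29) (by norm_num) (by norm_num))
    (f := 275264) (by norm_num) (by norm_num), hG⟩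

/-- one fixed transposition: the normaliser centralises it -/
theorem card_normalizer_one (hconj : ∀ g : G, ∀ d ∈ D, g * d * g⁻¹ ∈ D) (hL : Local D 1) {X : Subgroup G}
    (hX : Nat.card X = 11) :
    Subgroup.normalizer (X : Set G) ⊓ Subgroup.centralizer (fixed D X) = Subgroup.normalizer (X : Set G) := by
  obtain ⟨h1, h2⟩ := card_normalizer_eq hconj hL hX
  refine Subgroup.eq_of_le_of_card_ge inf_le_left ?_
  rw [hL.nor X hX, h2, Nat.eq_one_of_dvd_one h1]
  norm_num

theorem range_card_two (hconj : ∀ g : G, ∀ d ∈ D, g * d * g⁻¹ ∈ D) (hL : Local D 2) {X : Subgroup G}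
    (hX : Nat.card X = 11) (hG : Nat.card G = 2 ^ 18 * 3 ^ 13 * 5 ^ 2 * 7 * 11 * 13 * 17 * 23) :
    Nat.card (Subgroup.normalizer (X : Set G)) = 440 := by
  obtain ⟨h1, h2⟩ := card_normalizer_eq hconj hL hX
  have hidx := index_normalizer_mod hL.once hX
  have h := (Subgroup.normalizer (X : Set G)).card_mul_index
  rw [h2, hG] at h
  have hj := Nat.le_of_dvd (Nat.factorial_pos 2) h1
  rw [h2]
  generalize Nat.card (permHom hconj X).range = j at *
  norm_num [Nat.factorial] at hj h1 h ⊢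
  interval_cases j <;> omega

theorem range_card_three (hconj : ∀ g : G, ∀ d ∈ D, g * d * g⁻¹ ∈ D) (hL : Local D 3) {X : Subgroup G}
    (hX : Nat.card X = 11)
    (hG : Nat.card G = 2 ^ 22 * 3 ^ 16 * 5 ^ 2 * 7 ^ 3 * 11 * 13 * 17 * 23 * 29) :
    Function.Surjective (permHom hconj X) := by
  obtain ⟨h1, h2⟩ := card_normalizer_eq hconj hL hX
  have hidx := index_normalizer_mod hL.once hX
  have h := (Subgroup.normalizer (X : Set G)).card_mul_index
  rw [h2, hG] at h
  have hj := Nat.le_of_dvd (Nat.factorial_pos 3) h1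
  have h6 : Nat.card (permHom hconj X).range = 6 := by
    generalize Nat.card (permHom hconj X).range = j at *
    norm_num [Nat.factorial] at hj h1 h ⊢
    interval_cases j <;> omega
  rw [← MonoidHom.range_eq_top]
  refine Subgroup.eq_top_of_card_eq _ ?_
  rw [h6, Nat.card_perm, Nat.card_coe_set_eq, hL.ncard X hX]
  rfl

end Cfsg.Agent.Lib.FischerMTypes.Eleven
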